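import Groth.Agent.CohDer1.LTenLES.Resolve
import Mathlib.Algebra.Homology.ShortComplex.ExactFunctor
import Mathlib.Algebra.Homology.DerivedCategory.HomologySequence

/-!
# The long exact sequence of `M ↦ H^p(M ⊗ᴸ E)`
-/

set_option autoImplicit false
set_option backward.isDefEq.respectTransparency false

universe u

open CategoryTheory CategoryTheory.Limits Opposite HomologicalComplex
open Groth.Agent.DCat Groth.Agent.SiteTen

attribute [local instance] HasDerivedCategory.standard

namespace Groth.Agent.CohDer1.LTenLES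

variable {C : Type u} [SmallCategory C] {J : GrothendieckTopology C} {O : Sheaf J CommRingCat.{u}}
  (E : CochainComplex (ModSite.Mod O) ℤ) [ModSite.HasLTensorCx E]

/-- `M ↦ H^p(M ⊗ᴸ E)`. -/
noncomputable abbrev G (p : ℤ) : ModSite.Mod O ⥤ ModSite.Mod O :=
  DerivedCategory.singleFunctor (ModSite.Mod O) 0 ⋙ ModSite.LTensorCx E ⋙
    DerivedCategory.homologyFunctor (ModSite.Mod O) p

/-- A module as a complex in degree zero. -/
noncomputable abbrev sgl (M : ModSite.Mod O) : CochainComplex (ModSite.Mod O) ℤ :=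
  (CochainComplex.singleFunctor (ModSite.Mod O) 0).obj M

variable (p : ℤ)

/-- The comparison with the tensor product with a resolution. -/
noncomputable def θ {P : CochainComplex (ModSite.Mod O) ℤ} (hP : IsKFlatFor (tT O) P) {M : ModSite.Mod O}
    (c : P ⟶ sgl M) : (tot (tT O) P E).homology p ⟶ (G E p).obj M :=
  ((DerivedCategory.homologyFunctorFactors (ModSite.Mod O) p).app (tot (tT O) P E)).inv ≫
    (DerivedCategory.homologyFunctor (ModSite.Mod O) p).map
      ((ltensorIso E hP).inv ≫ (ModSite.LTensorCx E).map (DerivedCategory.Q.map c))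

theorem isIso_θ {P : CochainComplex (ModSite.Mod O) ℤ} (hP : IsKFlatFor (tT O) P) {M : ModSite.Mod O}
    (c : P ⟶ sgl M) [QuasiIso c] : IsIso (θ E p hP c) := by
  unfold θ
  infer_instance

theorem θ_naturality {P P' : CochainComplex (ModSite.Mod O) ℤ} (hP : IsKFlatFor (tT O) P)
    (hP' : IsKFlatFor (tT O) P') {M M' : ModSite.Mod O} (c : P ⟶ sgl M) (c' : P' ⟶ sgl M') (g : P ⟶ P')
    (m : M ⟶ M') (h : g ≫ c' = c ≫ (CochainComplex.singleFunctor (ModSite.Mod O) 0).map m) :
    θ E p hP c ≫ (G E p).map m = homologyMap (totMap₁ (tT O) g E) p ≫ θ E p hP' c' := by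
  haveI := isIso_ltCounit E hP
  haveI := isIso_ltCounit E hP'
  have hinv : DerivedCategory.Q.map (totMap₁ (tT O) g E) ≫ (ltensorIso E hP').inv =
      (ltensorIso E hP).inv ≫ (ModSite.LTensorCx E).map (DerivedCategory.Q.map g) := by
    rw [Iso.comp_inv_eq, Category.assoc, Iso.eq_inv_comp]
    exact ((ltCounit E).naturality g).symm
  have key : ((ltensorIso E hP).inv ≫ (ModSite.LTensorCx E).map (DerivedCategory.Q.map c)) ≫
      (ModSite.LTensorCx E).map ((DerivedCategory.singleFunctor (ModSite.Mod O) 0).map m) =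
      DerivedCategory.Q.map (totMap₁ (tT O) g E) ≫ (ltensorIso E hP').inv ≫
        (ModSite.LTensorCx E).map (DerivedCategory.Q.map c') := by
    rw [Category.assoc, ← Functor.map_comp, show (DerivedCategory.singleFunctor (ModSite.Mod O) 0).map m =
      DerivedCategory.Q.map ((CochainComplex.singleFunctor (ModSite.Mod O) 0).map m) from rfl, ← Functor.map_comp, ← h,
      reassoc_of% hinv, Functor.map_comp, Functor.map_comp]
  unfold θ
  rw [Category.assoc, show (G E p).map m = (DerivedCategory.homologyFunctor (ModSite.Mod O) p).map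
    ((ModSite.LTensorCx E).map ((DerivedCategory.singleFunctor (ModSite.Mod O) 0).map m)) from rfl,
    ← Functor.map_comp, key, Functor.map_comp]
  exact ((DerivedCategory.homologyFunctorFactors (ModSite.Mod O) p).inv.naturality_assoc
    (totMap₁ (tT O) g E) _).symm

theorem isZero_G_zero {Z : ModSite.Mod O} (hZ : IsZero Z) : IsZero ((G E p).obj Z) := by
  have hs : IsZero (sgl Z) := (CochainComplex.singleFunctor (ModSite.Mod O) 0).map_isZero hZ
  have hP := isKFlatFor_of_isZero (T := tT O) hs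
  haveI := isIso_θ E p hP (𝟙 (sgl Z))
  refine IsZero.of_iso ?_ (asIso (θ E p hP (𝟙 (sgl Z)))).symm
  exact (HomologicalComplex.homologyFunctor _ _ p).map_isZero
    (((tT O).map₂CochainComplex.flip.obj E).map_isZero hs)

instance : (G E p).PreservesZeroMorphisms where
  map_zero X Y := by
    obtain ⟨Z, hZ⟩ := HasZeroObject.zero (C := ModSite.Mod O)
    rw [show (0 : X ⟶ Y) = (0 : X ⟶ Z) ≫ (0 : Z ⟶ Y) by simp, Functor.map_comp]
    rw [(isZero_G_zero E p hZ).eq_of_src ((G E p).map (0 : Z ⟶ Y)) 0, comp_zero]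

/-- The facts used about the long exact sequence. -/
theorem les {S : ShortComplex (ModSite.Mod O)} (hS : S.ShortExact) :
    ((S.map (G E p)).Exact) ∧ (Epi ((G E p).map S.g) ↔ Mono ((G E (p + 1)).map S.f)) := by
  have hs : (S.map (CochainComplex.singleFunctor (ModSite.Mod O) 0)).ShortExact :=
    hS.map_of_exact (HomologicalComplex.single (ModSite.Mod O) (ComplexShape.up ℤ) 0)
  obtain ⟨T, φ, h₁, h₂, h₃, hT, q₁, q₂, q₃⟩ := exists_split_resolution _ hs
  let U := T.map ((tT O).map₂CochainComplex.flip.obj E)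
  have hU : U.ShortExact := shortExact_tot₁_of_split (tT O) T hT E
  have sq₁ : ∀ q, θ E q h₁ φ.τ₁ ≫ (G E q).map S.f = homologyMap U.f q ≫ θ E q h₂ φ.τ₂ := fun q =>
    θ_naturality E q h₁ h₂ φ.τ₁ φ.τ₂ T.f S.f φ.comm₁₂.symm
  have sq₂ : ∀ q, θ E q h₂ φ.τ₂ ≫ (G E q).map S.g = homologyMap U.g q ≫ θ E q h₃ φ.τ₃ := fun q =>
    θ_naturality E q h₂ h₃ φ.τ₂ φ.τ₃ T.g S.g φ.comm₂₃.symm
  haveI := fun q => @isIso_θ _ _ _ _ E _ q _ h₁ _ φ.τ₁ q₁
  haveI := fun q => @isIso_θ _ _ _ _ E _ q _ h₂ _ φ.τ₂ q₂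
  haveI := fun q => @isIso_θ _ _ _ _ E _ q _ h₃ _ φ.τ₃ q₃
  refine ⟨ShortComplex.exact_of_iso (ShortComplex.isoMk (asIso (θ E p h₁ φ.τ₁)) (asIso (θ E p h₂ φ.τ₂))
    (asIso (θ E p h₃ φ.τ₃)) (sq₁ p) (sq₂ p)) (hU.homology_exact₂ p), ?_⟩
  have e₁ : Epi ((G E p).map S.g) ↔ Epi (homologyMap U.g p) :=
    ((MorphismProperty.epimorphisms _).arrow_mk_iso_iff
      (Arrow.isoMk (asIso (θ E p h₂ φ.τ₂)) (asIso (θ E p h₃ φ.τ₃)) (sq₂ p))).symm
  have e₂ : Mono ((G E (p + 1)).map S.f) ↔ Mono (homologyMap U.f (p + 1)) :=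
    ((MorphismProperty.monomorphisms _).arrow_mk_iso_iff
      (Arrow.isoMk (asIso (θ E (p + 1) h₁ φ.τ₁)) (asIso (θ E (p + 1) h₂ φ.τ₂)) (sq₁ (p + 1)))).symm
  rw [e₁, e₂]
  have hij : (ComplexShape.up ℤ).Rel p (p + 1) := rfl
  constructor
  · intro _
    refine (hU.homology_exact₁ p (p + 1) hij).mono_g ?_
    rw [← cancel_epi (homologyMap U.g p)]
    exact (hU.comp_δ p (p + 1) hij).trans comp_zero.symm
  · intro _
    refine (hU.homology_exact₃ p (p + 1) hij).epi_f ?_
    rw [← cancel_mono (homologyMap U.f (p + 1))]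
    exact (hU.δ_comp p (p + 1) hij).trans zero_comp.symm

theorem additive : (G E p).Additive := by
  haveI : PreservesBinaryBiproducts (G E p) := ⟨fun {X Y} => ⟨fun {b} hb => ⟨isBinaryBilimitOfTotal _ ?_⟩⟩⟩
  · exact Functor.additive_of_preservesBinaryBiproducts _
  let S := ShortComplex.mk b.inl b.snd b.inl_snd
  have σ : S.Splitting :=
    { r := b.fst
      s := b.inr
      f_r := b.inl_fst
      s_g := b.inr_snd
      id := by
        refine hb.isColimit.hom_ext ?_
        rintro ⟨⟨⟩⟩ <;> simp [S] }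
  have hbf : (G E p).map b.inl ≫ (G E p).map b.fst = 𝟙 _ := by
    rw [← Functor.map_comp, b.inl_fst, CategoryTheory.Functor.map_id]
  haveI : Mono (S.map (G E p)).f := mono_of_mono_fac hbf
  have hx : (𝟙 _ - (G E p).map b.snd ≫ (G E p).map b.inr) ≫ (S.map (G E p)).g = 0 := by
    show (_ - _) ≫ (G E p).map b.snd = 0
    rw [Preadditive.sub_comp, Category.id_comp, Category.assoc, ← Functor.map_comp, b.inr_snd,
      CategoryTheory.Functor.map_id, Category.comp_id, sub_self]
  have hl := (les E p σ.shortExact).1.lift_f _ hx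
  have hf : (G E p).map b.inr ≫ (G E p).map b.fst = 0 := by
    rw [← Functor.map_comp, b.inr_fst, Functor.map_zero]
  have e : (les E p σ.shortExact).1.lift _ hx = (G E p).map b.fst := by
    have e := hl =≫ (G E p).map b.fst
    simp only [Category.assoc, Preadditive.sub_comp, Category.id_comp, hf, comp_zero, sub_zero] at e
    exact (Category.comp_id _).symm.trans ((congrArg (_ ≫ ·) hbf.symm).trans e)
  have hl' : (G E p).map b.fst ≫ (G E p).map b.inl = 𝟙 _ - (G E p).map b.snd ≫ (G E p).map b.inr :=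
    (congrArg (· ≫ (G E p).map b.inl) e.symm).trans hl
  show (G E p).map b.fst ≫ (G E p).map b.inl + (G E p).map b.snd ≫ (G E p).map b.inr = 𝟙 _
  rw [hl']
  exact sub_add_cancel _ _

theorem rightExact_iff_leftExact_succ :
    PreservesFiniteColimits (G E p) ↔ PreservesFiniteLimits (G E (p + 1)) := by
  haveI := additive E p
  haveI := additive E (p + 1)
  rw [Functor.preservesFiniteColimits_iff_forall_exact_map_and_epi, Functor.preservesFiniteLimits_iff_forall_exact_map_and_mono]
  exact ⟨fun h S hS => ⟨(les E (p + 1) hS).1, (les E p hS).2.1 (h S hS).2⟩,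
    fun h S hS => ⟨(les E p hS).1, (les E p hS).2.2 (h S hS).2⟩⟩

end Groth.Agent.CohDer1.LTenLES
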