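import Groth.Agent.CohDer1.LTenLES.Exactness
import Groth.Agent.SiteTen.TotSingle

/-!
# Right exactness of `M ↦ H^p(M ⊗ᴸ E)` for a complex of flat modules
-/

set_option autoImplicit false
set_option backward.isDefEq.respectTransparency false

universe u

open CategoryTheory CategoryTheory.Limits Opposite HomologicalComplex
open Groth.Agent.DCat Groth.Agent.SiteTen

attribute [local instance] HasDerivedCategory.standard

namespace Groth.Agent.CohDer1.LTenLES

variable {C : Type u} [SmallCategory C] {J : GrothendieckTopology C} {O : Sheaf J CommRingCat.{u}}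
  (E : CochainComplex (ModSite.Mod O) ℤ)

section

universe v₁ v₂ v₃ u₁ u₂ u₃

variable {A : Type u₁} [Category.{v₁} A] [Preadditive A] {B : Type u₂} [Category.{v₂} B] [Preadditive B]
  [HasZeroObject B] {D : Type u₃} [Category.{v₃} D] [Abelian D]
  (T : A ⥤ B ⥤ D) [T.Additive] [∀ a, (T.obj a).Additive]
  [∀ (K₁ : CochainComplex A ℤ) (K₂ : CochainComplex B ℤ), CochainComplex.HasMapBifunctor K₁ K₂ T]

theorem totSingle_natural_right {M M' : B} (m : M ⟶ M') (F : CochainComplex A ℤ) :
    (NatTrans.mapHomologicalComplex (T.flip.map m) (ComplexShape.up ℤ)).app F ≫ totSingle T M' F =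
      totSingle T M F ≫ mapBifunctorMap (𝟙 F) ((HomologicalComplex.single B (ComplexShape.up ℤ) 0).map m) T
        (ComplexShape.up ℤ) := by
  refine HomologicalComplex.hom_ext _ _ fun n => ?_
  dsimp [totSingle, totSingleHom]
  rw [Category.assoc, ι_mapBifunctorMap, id_f, CategoryTheory.Functor.map_id, NatTrans.id_app, Category.id_comp,
    single_map_f_self, ← Functor.map_comp_assoc, Iso.inv_hom_id_assoc, Functor.map_comp, Category.assoc]
  rfl

end

/-- `M ⊗ E`, termwise. -/
noncomputable abbrev tens (M : ModSite.Mod O) : CochainComplex (ModSite.Mod O) ℤ :=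
  (((tT O).obj M).mapHomologicalComplex (ComplexShape.up ℤ)).obj E

/-- Functoriality of `tens`. -/
noncomputable abbrev tensMap {M M' : ModSite.Mod O} (m : M ⟶ M') : tens E M ⟶ tens E M' :=
  (NatTrans.mapHomologicalComplex ((tT O).map m) (ComplexShape.up ℤ)).app E

/-- `tens` is the total complex against a module in degree zero. -/
noncomputable def tensToTot (M : ModSite.Mod O) : tens E M ⟶ tot (tT O) (sgl M) E :=
  totSingle (tT O).flip M E ≫ (mapBifunctorFlipIso (sgl M) E (tT O) (ComplexShape.up ℤ)).hom

instance (M : ModSite.Mod O) : IsIso (tensToTot E M) := by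
  haveI : IsIso (totSingle (tT O).flip M E) := isIso_totSingle (tT O).flip M E
  unfold tensToTot
  infer_instance

theorem tensToTot_natural {M M' : ModSite.Mod O} (m : M ⟶ M') :
    tensMap E m ≫ tensToTot E M' =
      tensToTot E M ≫ totMap₁ (tT O) ((CochainComplex.singleFunctor (ModSite.Mod O) 0).map m) E := by
  unfold tensToTot
  rw [Category.assoc, ← mapBifunctorFlipIso_hom_naturality, ← Category.assoc, ← Category.assoc]
  congr 1
  exact totSingle_natural_right (tT O).flip m E

variable [ModSite.HasLTensorCx E]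

/-- The counit is invertible when the fixed factor is K-flat. -/
theorem isIso_ltCounit_right (hE : IsKFlatFor (tT O) E) (K : CochainComplex (ModSite.Mod O) ℤ) :
    IsIso ((ltCounit E).app K) := by
  obtain ⟨P, c, hP, -, hc, -⟩ := exists_kflat K
  haveI := hc
  haveI := hE.quasiIso_map c
  haveI := isIso_ltCounit E hP
  haveI : IsIso ((ModSite.tensorCxQ E).map c) :=
    (DerivedCategory.isIso_Q_map_iff_quasiIso (φ := totMap₁ (tT O) c E)).2 inferInstance
  haveI : IsIso ((ModSite.LTensorCx E).map (DerivedCategory.Q.map c) ≫ (ltCounit E).app K) := by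
    rw [show (ModSite.LTensorCx E).map (DerivedCategory.Q.map c) ≫ (ltCounit E).app K =
      (ltCounit E).app P ≫ (ModSite.tensorCxQ E).map c from (ltCounit E).naturality c]
    infer_instance
  exact IsIso.of_isIso_comp_left ((ModSite.LTensorCx E).map (DerivedCategory.Q.map c)) _

variable (q : ℤ)

/-- The comparison for a K-flat fixed factor. -/
noncomputable def ψ (M : ModSite.Mod O) : (G E q).obj M ⟶ (tot (tT O) (sgl M) E).homology q :=
  (DerivedCategory.homologyFunctor (ModSite.Mod O) q).map ((ltCounit E).app (sgl M)) ≫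
    ((DerivedCategory.homologyFunctorFactors (ModSite.Mod O) q).app (tot (tT O) (sgl M) E)).hom

theorem ψ_natural {M M' : ModSite.Mod O} (m : M ⟶ M') :
    (G E q).map m ≫ ψ E q M' =
      ψ E q M ≫ homologyMap (totMap₁ (tT O) ((CochainComplex.singleFunctor (ModSite.Mod O) 0).map m) E) q := by
  unfold ψ
  rw [show (G E q).map m = (DerivedCategory.homologyFunctor (ModSite.Mod O) q).map ((ModSite.LTensorCx E).map
      (DerivedCategory.Q.map ((CochainComplex.singleFunctor (ModSite.Mod O) 0).map m))) from rfl,
    ← Functor.map_comp_assoc,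
    show (ModSite.LTensorCx E).map (DerivedCategory.Q.map ((CochainComplex.singleFunctor (ModSite.Mod O) 0).map m)) ≫
      (ltCounit E).app (sgl M') = (ltCounit E).app (sgl M) ≫
        (ModSite.tensorCxQ E).map ((CochainComplex.singleFunctor (ModSite.Mod O) 0).map m) from
      (ltCounit E).naturality ((CochainComplex.singleFunctor (ModSite.Mod O) 0).map m),
    Functor.map_comp, Category.assoc, Category.assoc]
  exact congrArg ((DerivedCategory.homologyFunctor (ModSite.Mod O) q).map ((ltCounit E).app (sgl M)) ≫ ·)
    ((DerivedCategory.homologyFunctorFactors (ModSite.Mod O) q).hom.naturality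
      (totMap₁ (tT O) ((CochainComplex.singleFunctor (ModSite.Mod O) 0).map m) E))

theorem mono_G_map_iff (hE : IsKFlatFor (tT O) E) {M M' : ModSite.Mod O} (m : M ⟶ M') :
    Mono ((G E q).map m) ↔ Mono (homologyMap (tensMap E m) q) := by
  haveI : ∀ N, IsIso (ψ E q N) := fun N => by
    haveI := isIso_ltCounit_right E hE (sgl N)
    unfold ψ
    infer_instance
  let a : ∀ N, (G E q).obj N ≅ (tens E N).homology q := fun N =>
    asIso (ψ E q N) ≪≫ (HomologicalComplex.homologyFunctor _ _ q).mapIso (asIso (tensToTot E N)).symm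
  refine (MorphismProperty.monomorphisms _).arrow_mk_iso_iff (Arrow.isoMk (a M) (a M') ?_)
  show (ψ E q M ≫ homologyMap (inv (tensToTot E M)) q) ≫ homologyMap (tensMap E m) q =
    (G E q).map m ≫ ψ E q M' ≫ homologyMap (inv (tensToTot E M')) q
  rw [← Category.assoc ((G E q).map m), ψ_natural, Category.assoc, Category.assoc, ← homologyMap_comp,
    ← homologyMap_comp]
  congr 2
  rw [IsIso.inv_comp_eq, ← Category.assoc, ← tensToTot_natural, Category.assoc, IsIso.hom_inv_id, Category.comp_id]

omit [ModSite.HasLTensorCx E] in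
/-- Flatness of the cokernel of a differential, through monomorphisms on homology. -/
theorem forall_mono_homologyMap_iff (j : ℤ) (hj : ∀ i, ModSite.IsFlat (E.X i)) :
    (∀ ⦃M M' : ModSite.Mod O⦄ (m : M ⟶ M'), Mono m → Mono (homologyMap (tensMap E m) (j + 1))) ↔
      ModSite.IsFlat (cokernel (E.d j (j + 1))) := by
  let Q := cokernel (E.d j (j + 1))
  have hiso : ∀ M : ModSite.Mod O, ∃ e : (tens E M).opcycles (j + 1) ≅ ((tT O).obj M).obj Q,
      (tens E M).pOpcycles (j + 1) ≫ e.hom = ((tT O).obj M).map (cokernel.π (E.d j (j + 1))) := fun M => by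
    let c : CokernelCofork ((tens E M).d j (j + 1)) :=
      CokernelCofork.ofπ (((tT O).obj M).map (cokernel.π (E.d j (j + 1)))) (by
        show ((tT O).obj M).map (E.d j (j + 1)) ≫ _ = 0
        rw [← Functor.map_comp, cokernel.condition, Functor.map_zero])
    have hc : IsColimit c :=
      isColimitCoforkMapOfIsColimit' ((tT O).obj M) (cokernel.condition _) (cokernelIsCokernel (E.d j (j + 1)))
    exact ⟨((tens E M).opcyclesIsCokernel j (j + 1) (by simp)).coconePointUniqueUpToIso hc,
      IsColimit.comp_coconePointUniqueUpToIso_hom ((tens E M).opcyclesIsCokernel j (j + 1) (by simp)) hc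
        WalkingParallelPair.one⟩
  choose e he using hiso
  have key : ∀ ⦃M M' : ModSite.Mod O⦄ (m : M ⟶ M'), Mono (opcyclesMap (tensMap E m) (j + 1)) ↔
      Mono (((tT O).map m).app Q) := fun M M' m => by
    refine (MorphismProperty.monomorphisms _).arrow_mk_iso_iff (Arrow.isoMk (e M) (e M') ?_)
    show (e M).hom ≫ ((tT O).map m).app Q = opcyclesMap (tensMap E m) (j + 1) ≫ (e M').hom
    rw [← cancel_epi ((tens E M).pOpcycles (j + 1)), p_opcyclesMap_assoc, he, reassoc_of% (he M)]
    exact ((tT O).map m).naturality _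
  constructor
  · refine fun h => isFlat_of_preservesMono fun M M' m hm => (key m).1 ?_
    haveI := hm
    haveI : Mono ((tensMap E m).f (j + 1 + 1)) := mono_flip_map (hj _) m
    haveI := h m hm
    refine Preadditive.mono_of_cancel_zero _ fun {Z} x hx => ?_
    have hd : x ≫ (tens E M).fromOpcycles (j + 1) (j + 1 + 1) = 0 := by
      have hn : (tens E M).fromOpcycles (j + 1) (j + 1 + 1) ≫ (tensMap E m).f (j + 1 + 1) =
          opcyclesMap (tensMap E m) (j + 1) ≫ (tens E M').fromOpcycles (j + 1) (j + 1 + 1) := by
        simp [← cancel_epi ((tens E M).pOpcycles (j + 1))]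
      rw [← cancel_mono ((tensMap E m).f (j + 1 + 1)), zero_comp, Category.assoc, hn, reassoc_of% hx, zero_comp]
    let y := ((tens E M).homologyIsKernel (j + 1) (j + 1 + 1) (by simp)).lift (KernelFork.ofι x hd)
    have hy : y ≫ (tens E M).homologyι (j + 1) = x :=
      ((tens E M).homologyIsKernel (j + 1) (j + 1 + 1) (by simp)).fac _ WalkingParallelPair.zero
    have : y ≫ homologyMap (tensMap E m) (j + 1) = 0 := by
      rw [← cancel_mono ((tens E M').homologyι (j + 1)), Category.assoc, homologyι_naturality, reassoc_of% hy, hx, zero_comp]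
    rw [← hy, (cancel_mono (homologyMap (tensMap E m) (j + 1))).1 (this.trans zero_comp.symm), zero_comp]
  · intro h M M' m hm
    haveI := hm
    haveI : Mono (opcyclesMap (tensMap E m) (j + 1)) := (key m).2 (mono_flip_map h m)
    haveI : Mono (homologyMap (tensMap E m) (j + 1) ≫ (tens E M').homologyι (j + 1)) := by
      rw [homologyι_naturality]; infer_instance
    exact mono_of_mono (homologyMap (tensMap E m) (j + 1)) ((tens E M').homologyι (j + 1))

theorem rightExact_iff_isFlat_cokernel (b : ℤ) (hb : ∀ i, b < i → IsZero (E.X i))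
    (hf : ∀ i, ModSite.IsFlat (E.X i)) (p : ℤ) :
    PreservesFiniteColimits (G E p) ↔ ModSite.IsFlat (cokernel (E.d p (p + 1))) := by
  have hE : IsKFlatFor (tT O) E := isKFlatFor_boundedAbove E b hb hf
  haveI := additive E (p + 1)
  rw [rightExact_iff_leftExact_succ, Functor.preservesFiniteLimits_iff_forall_exact_map_and_mono,
    ← forall_mono_homologyMap_iff E p hf]
  constructor
  · intro h M M' m hm
    haveI := hm
    exact (mono_G_map_iff E (p + 1) hE m).1 (h (ShortComplex.mk m (cokernel.π m) (cokernel.condition m))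
      { exact := ShortComplex.exact_cokernel m, mono_f := hm, epi_g := inferInstance }).2
  · intro h S hS
    exact ⟨(les E (p + 1) hS).1, (mono_G_map_iff E (p + 1) hE S.f).2 (h S.f hS.mono_f)⟩

end Groth.Agent.CohDer1.LTenLES
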