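import Groth.Agent.CohDer1.LTenLES.Exactness

/-!
# Flat amplitudes add under the derived tensor product
-/

set_option autoImplicit false
set_option backward.isDefEq.respectTransparency false

universe u

open CategoryTheory CategoryTheory.Limits Opposite HomologicalComplex
open Groth.Agent.DCat Groth.Agent.SiteTen

attribute [local instance] HasDerivedCategory.standard

namespace Groth.Agent.CohDer1.LTenLES

variable {C : Type u} [SmallCategory C] {J : GrothendieckTopology C} {O : Sheaf J CommRingCat.{u}}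

theorem isFlat_tot {P F : CochainComplex (ModSite.Mod O) ℤ} (hP : ∀ i, ModSite.IsFlat (P.X i))
    (hF : ∀ i, ModSite.IsFlat (F.X i)) (n : ℤ) : ModSite.IsFlat ((tot (tT O) P F).X n) := by
  let K := ((((tT O).mapBifunctorHomologicalComplex (ComplexShape.up ℤ) (ComplexShape.up ℤ)).obj P).obj F)
  let f := K.toGradedObject.mapObjFun (ComplexShape.π (ComplexShape.up ℤ) (ComplexShape.up ℤ) (ComplexShape.up ℤ)) n
  have h : ∀ i, ModSite.IsFlat (f i) := fun i => isFlat_tensor (hP _) (hF _)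
  refine isFlat_of_iso (Sigma.whiskerEquiv Equiv.ulift.{u} (fun i => Iso.refl (f i.down)) :
    (∐ fun i => f (Equiv.ulift.{u} i)) ≅ ∐ f) ?_
  exact isFlat_cofan (coproductIsCoproduct fun i => f (Equiv.ulift.{u} i)) fun i => h _

theorem isZero_tot {P F : CochainComplex (ModSite.Mod O) ℤ} {m n m' n' : ℤ}
    (hP : ∀ i : ℤ, i < m ∨ n < i → IsZero (P.X i)) (hF : ∀ i : ℤ, i < m' ∨ n' < i → IsZero (F.X i))
    (i : ℤ) (hi : i < m + m' ∨ n + n' < i) : IsZero ((tot (tT O) P F).X i) := by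
  rw [IsZero.iff_id_eq_zero]
  refine mapBifunctor.hom_ext fun p q h => IsZero.eq_of_src ?_ _ _
  have hpq : p + q = i := h
  by_cases hp : p < m ∨ n < p
  · exact ((tT O).flip.obj (F.X q)).map_isZero (hP p hp)
  · exact ((tT O).obj _).map_isZero (hF q (by omega))

theorem exists_flatModel (E P : CochainComplex (ModSite.Mod O) ℤ) {m n : ℤ}
    (hP : ∀ i : ℤ, ModSite.IsFlat (P.X i)) (hPb : ∀ i : ℤ, i < m ∨ n < i → IsZero (P.X i))
    (eP : DerivedCategory.Q.obj P ≅ DerivedCategory.Q.obj E) (F : CochainComplex (ModSite.Mod O) ℤ)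
    {m' n' : ℤ} (hF : ∀ i : ℤ, ModSite.IsFlat (F.X i)) (hFb : ∀ i : ℤ, i < m' ∨ n' < i → IsZero (F.X i))
    [ModSite.HasLTensorCx F] :
    ∃ G : CochainComplex (ModSite.Mod O) ℤ, (∀ i : ℤ, ModSite.IsFlat (G.X i)) ∧
      (∀ i : ℤ, i < m + m' ∨ n + n' < i → IsZero (G.X i)) ∧
      Nonempty (DerivedCategory.Q.obj G ≅ (ModSite.LTensorCx F).obj (DerivedCategory.Q.obj E)) :=
  ⟨tot (tT O) P F, isFlat_tot hP hF, isZero_tot hPb hFb,
    ⟨(ltensorIso F (isKFlatFor_boundedAbove P n (fun i hi => hPb i (Or.inr hi)) hP)).symm ≪≫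
      (ModSite.LTensorCx F).mapIso eP⟩⟩

end Groth.Agent.CohDer1.LTenLES
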