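import Groth.Agent.SiteTen.LTensor
import Groth.Agent.SiteTen.KFlat

/-!
# Short exact sequences of modules have degreewise split K-flat resolutions
-/

set_option autoImplicit false
set_option backward.isDefEq.respectTransparency false

universe u

open CategoryTheory CategoryTheory.Limits Opposite HomologicalComplex
open Groth.Agent.DCat Groth.Agent.SiteTen

attribute [local instance] HasDerivedCategory.standard

namespace Groth.Agent.CohDer1.LTenLES

variable {C : Type u} [SmallCategory C] {J : GrothendieckTopology C} {O : Sheaf J CommRingCat.{u}}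

/-- A short exact sequence of complexes has a degreewise split K-flat resolution. -/
theorem exists_split_resolution (S : ShortComplex (CochainComplex (ModSite.Mod O) ℤ)) (hS : S.ShortExact) :
    ∃ (T : ShortComplex (CochainComplex (ModSite.Mod O) ℤ)) (φ : T ⟶ S),
      IsKFlatFor (tT O) T.X₁ ∧ IsKFlatFor (tT O) T.X₂ ∧ IsKFlatFor (tT O) T.X₃ ∧
      (∀ n, Nonempty ((T.map (HomologicalComplex.eval _ (ComplexShape.up ℤ) n)).Splitting)) ∧
      QuasiIso φ.τ₁ ∧ QuasiIso φ.τ₂ ∧ QuasiIso φ.τ₃ := by
  obtain ⟨P₁, c₁, hP₁, -, hc₁, -⟩ := exists_kflat S.X₁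
  obtain ⟨Q, b, c, hQ, hc, -, he, -⟩ := exists_kflat_res (c₁ ≫ S.f) hP₁
  let K := CochainComplex.mappingCone (𝟙 P₁)
  let i : P₁ ⟶ K := CochainComplex.mappingCone.inr (𝟙 P₁)
  have hK : IsKFlatFor (tT O) K :=
    (hP₁.ext₂ (S := CochainComplex.mappingCone.triangleRotateShortComplex (𝟙 P₁))
      (fun a q => shortExact_map_of_splitting
        (fun n => ⟨CochainComplex.mappingCone.triangleRotateShortComplexSplitting (𝟙 P₁) n⟩) a q) (hP₁.shift 1))
  have hKac : ∀ n, K.ExactAt n := fun n => by
    rw [exactAt_iff_isZero_homology, IsZero.iff_id_eq_zero,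
      ← HomologicalComplex.homologyMap_id, ← HomologicalComplex.homologyMap_zero]
    exact (CochainComplex.mappingCone.homotopyToZeroOfId P₁).homologyMap_eq n
  let N := Q ⊞ K
  have hbd : ∀ n, Nonempty (((ShortComplex.mk (biprod.inr : K ⟶ N) (biprod.fst : N ⟶ Q) biprod.inr_fst).map
      (HomologicalComplex.eval _ (ComplexShape.up ℤ) n)).Splitting) := fun n =>
    ⟨{ r := (biprod.snd : N ⟶ K).f n
       s := (biprod.inl : Q ⟶ N).f n
       f_r := by simp [← HomologicalComplex.comp_f]; rfl
       s_g := by simp [← HomologicalComplex.comp_f]; rfl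
       id := by
        show (biprod.snd : N ⟶ K).f n ≫ (biprod.inr : K ⟶ N).f n + (biprod.fst : N ⟶ Q).f n ≫ (biprod.inl : Q ⟶ N).f n = 𝟙 (N.X n)
        rw [← HomologicalComplex.comp_f, ← HomologicalComplex.comp_f, ← HomologicalComplex.add_f_apply, add_comm,
          biprod.total, HomologicalComplex.id_f] }⟩
  have hN : IsKFlatFor (tT O) N :=
    IsKFlatFor.ext₂ (S := ShortComplex.mk (biprod.inr : K ⟶ N) (biprod.fst : N ⟶ Q) biprod.inr_fst)
      (fun a q => shortExact_map_of_splitting hbd a q) hK hQ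
  let f : P₁ ⟶ N := biprod.lift b i
  let cN : N ⟶ S.X₂ := biprod.fst ≫ c
  have hcN : QuasiIso cN := by
    haveI := hc
    haveI : QuasiIso (biprod.fst : N ⟶ Q) := by
      have hse := shortExact_of_degreewise_shortExact
        (ShortComplex.mk (biprod.inr : K ⟶ N) (biprod.fst : N ⟶ Q) biprod.inr_fst)
        fun n => (hbd n).some.shortExact
      refine ⟨fun n => ?_⟩
      rw [quasiIsoAt_iff_isIso_homologyMap]
      haveI : Mono (HomologicalComplex.homologyMap (biprod.fst : N ⟶ Q) n) :=
        ShortComplex.Exact.mono_g (hse.homology_exact₂ n) (((exactAt_iff_isZero_homology _ _).1 (hKac n)).eq_of_src _ _)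
      haveI : IsSplitEpi (HomologicalComplex.homologyMap (biprod.fst : N ⟶ Q) n) :=
        ⟨⟨{ section_ := HomologicalComplex.homologyMap (biprod.inl : Q ⟶ N) n
            id := by rw [← HomologicalComplex.homologyMap_comp, biprod.inl_fst, HomologicalComplex.homologyMap_id] }⟩⟩
      exact isIso_of_mono_of_epi _
    infer_instance
  have hfac : c₁ ≫ S.f = f ≫ cN := by simp [f, cN, he]
  let T := ShortComplex.mk f (cokernel.π f) (cokernel.condition f)
  have hsplit : ∀ n, Nonempty ((T.map (HomologicalComplex.eval _ (ComplexShape.up ℤ) n)).Splitting) := fun n => by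
    haveI : Epi ((T.map (HomologicalComplex.eval _ (ComplexShape.up ℤ) n)).g) :=
      inferInstanceAs (Epi ((HomologicalComplex.eval _ (ComplexShape.up ℤ) n).map (cokernel.π f)))
    refine ⟨ShortComplex.Splitting.ofExactOfRetraction _
      ((ShortComplex.exact_cokernel f).map (HomologicalComplex.eval _ (ComplexShape.up ℤ) n))
      ((biprod.snd : N ⟶ K).f n ≫ (CochainComplex.mappingCone.snd (𝟙 P₁)).v n n (add_zero n)) ?_ inferInstance⟩
    show f.f n ≫ (biprod.snd : N ⟶ K).f n ≫ _ = 𝟙 _
    rw [← Category.assoc, ← HomologicalComplex.comp_f, biprod.lift_snd]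
    exact CochainComplex.mappingCone.inr_f_snd_v (𝟙 P₁) n
  let φ₃ : T.X₃ ⟶ S.X₃ := cokernel.desc f (cN ≫ S.g) (by
    rw [← Category.assoc, ← hfac, Category.assoc, S.zero, comp_zero])
  let φ : T ⟶ S := { τ₁ := c₁, τ₂ := cN, τ₃ := φ₃, comm₁₂ := hfac, comm₂₃ := (cokernel.π_desc _ _ _).symm }
  have hT : T.ShortExact := shortExact_of_degreewise_shortExact _ fun n => (hsplit n).some.shortExact
  exact ⟨T, φ, hP₁, hN, hP₁.ext₃ (S := T) (fun a q => shortExact_map_of_splitting hsplit a q) hN, hsplit, hc₁, hcN,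
    HomologicalComplex.HomologySequence.quasiIso_τ₃ φ hT hS hc₁ hcN⟩

end Groth.Agent.CohDer1.LTenLES
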